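import Mathlib

/-!
# TEAM HT-E, A6: `full_odd`
-/

set_option autoImplicit false

namespace Cfsg.Agent.H450.HT

open Finset

theorem prod_sq_le {s : ℕ} (hs : 1 ≤ s) (a : ℕ) :
    (∏ i ∈ range a, (s ^ (i + 1) + 1)) ^ 2 ≤ 4 ^ a * s ^ (a * (a + 1)) := by
  induction a with
  | zero => simp
  | succ a ih =>
    rw [prod_range_succ, mul_pow]
    have h1 : (s ^ (a + 1) + 1) ^ 2 ≤ 4 * s ^ (2 * (a + 1)) := by
      have h2 : 1 ≤ s ^ (a + 1) := Nat.one_le_pow _ _ hs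
      have h3 : s ^ (2 * (a + 1)) = (s ^ (a + 1)) ^ 2 := by rw [← pow_mul, mul_comm]
      rw [h3]
      nlinarith
    calc _ ≤ 4 ^ a * s ^ (a * (a + 1)) * (4 * s ^ (2 * (a + 1))) := Nat.mul_le_mul ih h1
      _ = 4 ^ (a + 1) * s ^ ((a + 1) * (a + 1 + 1)) := by
        rw [show (a + 1) * (a + 1 + 1) = a * (a + 1) + 2 * (a + 1) by ring, pow_add s, pow_succ]
        ring

theorem pow_dvd_sub_one {s a z Q m : ℕ} (hs : s.Prime) (h3 : 3 ≤ s) (hz : s ∣ z)
    (hzQ : z ∣ Q - 1) (hQ : 1 < Q) (h2 : z * s ^ (2 * a) ∣ m) (h4 : m ∣ Q ^ (s ^ a) - 1) :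
    s ^ (a + 1) ∣ Q - 1 := by
  have hF : Fact s.Prime := ⟨hs⟩
  have hsQ1 : s ∣ Q - 1 := hz.trans hzQ
  have hsQ : ¬ s ∣ Q := by
    intro h
    have h5 : s ∣ Q - (Q - 1) := Nat.dvd_sub h hsQ1
    rw [show Q - (Q - 1) = 1 by omega] at h5
    have := Nat.le_of_dvd one_pos h5
    omega
  have hsa : s ^ a ≠ 0 := pow_ne_zero _ hs.ne_zero
  have h6 := padicValNat.pow_sub_pow (p := s) (hs.odd_of_ne_two (by omega)) (x := Q) (y := 1) hQ
    hsQ1 hsQ hsa
  rw [one_pow, padicValNat.prime_pow] at h6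
  have hne : Q ^ s ^ a - 1 ≠ 0 := by
    have : 1 < Q ^ s ^ a := Nat.one_lt_pow hsa hQ
    omega
  have h7 : s ^ (2 * a + 1) ∣ Q ^ s ^ a - 1 := by
    refine dvd_trans ?_ (h2.trans h4)
    rw [pow_succ, mul_comm]
    exact Nat.mul_dvd_mul hz (dvd_refl _)
  rw [padicValNat_dvd_iff_le hne, h6] at h7
  rw [padicValNat_dvd_iff_le (by omega)]
  omega

/-- A6 -/
theorem full_odd {s a z Q m : ℕ} (hs : s.Prime) (h3 : 3 ≤ s) (ha : 1 ≤ a) (hz : s ∣ z) (hzQ : z ∣ Q - 1)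
    (hQ : IsPrimePow Q) (h1 : m ∣ s ^ a * (∏ i ∈ range a, (s ^ (i + 1) + 1)) * (Q - 1)) (h2 : z * s ^ (2 * a) ∣ m)
    (h4 : m ∣ Q ^ (s ^ a) - 1) (h5 : Q ^ (s ^ a) ≤ 2 * m ^ 2) : False := by
  have hQ1 : 1 < Q := hQ.one_lt
  have hd := pow_dvd_sub_one hs h3 hz hzQ hQ1 h2 h4
  have hQge : s ^ (a + 1) + 1 ≤ Q := by
    have := Nat.le_of_dvd (by omega) hd
    omega
  by_cases h31 : s = 3 ∧ a = 1
  · -- `s = 3`, `a = 1`
    obtain ⟨rfl, rfl⟩ := h31
    have h9 : 9 ∣ Q - 1 := by simpa using hd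
    obtain ⟨k, hk⟩ := h9
    have hQk : Q = 9 * k + 1 := by omega
    have h6 : m ∣ (Q - 1) * 12 := by
      have : 3 ^ 1 * (∏ i ∈ range 1, (3 ^ (i + 1) + 1)) * (Q - 1) = (Q - 1) * 12 := by
        rw [prod_range_one]; ring
      rwa [this] at h1
    have h7 : m ∣ (Q - 1) * (Q ^ 2 + Q + 1) := by
      have : Q ^ 3 ^ 1 - 1 = (Q - 1) * (Q ^ 2 + Q + 1) := by
        rw [hk, hQk]
        have : (9 * k + 1) ^ 3 ^ 1 = 9 * k * ((9 * k + 1) ^ 2 + (9 * k + 1) + 1) + 1 := by ring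
        omega
      rwa [this] at h4
    have h8 : m ∣ (Q - 1) * Nat.gcd 12 (Q ^ 2 + Q + 1) := by
      rw [← Nat.gcd_mul_left]
      exact Nat.dvd_gcd h6 h7
    have h9 : Nat.gcd 12 (Q ^ 2 + Q + 1) ∣ 3 := by
      have e1 : Nat.gcd 12 (Q ^ 2 + Q + 1) ∣ 4 * 3 := Nat.gcd_dvd_left _ _
      have e2 : Nat.Coprime (Nat.gcd 12 (Q ^ 2 + Q + 1)) 4 := by
        have e3 : ¬ 2 ∣ Q ^ 2 + Q + 1 := by
          have : Even (Q ^ 2 + Q) := by
            rw [pow_two, ← mul_add_one]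
            exact Nat.even_mul_succ_self Q
          intro h
          have h10 := (Nat.dvd_add_right this.two_dvd).1 h
          omega
        have e4 : Nat.Coprime (Nat.gcd 12 (Q ^ 2 + Q + 1)) 2 := by
          rw [Nat.coprime_comm, Nat.Prime.coprime_iff_not_dvd Nat.prime_two]
          intro h
          exact e3 (h.trans (Nat.gcd_dvd_right _ _))
        have : Nat.Coprime (Nat.gcd 12 (Q ^ 2 + Q + 1)) (2 ^ 2) := Nat.Coprime.pow_right 2 e4
        simpa using this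
      exact e2.dvd_of_dvd_mul_left e1
    have h10 : m ≤ (Q - 1) * 3 := by
      refine Nat.le_of_dvd (by omega) (h8.trans (Nat.mul_dvd_mul_left _ h9))
    have h11 : Q ^ 3 ≤ 2 * ((Q - 1) * 3) ^ 2 := by
      refine le_trans (by simpa using h5) (Nat.mul_le_mul_left _ (Nat.pow_le_pow_left h10 2))
    have hk1 : k = 1 := by
      have hk0 : 0 < k := by omega
      rw [hk, hQk] at h11
      by_contra hk1
      have hk2 : 2 ≤ k := by omega
      have : 2 * (9 * k * 3) ^ 2 < (9 * k + 1) ^ 3 := by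
        obtain ⟨j, rfl⟩ := Nat.exists_eq_add_of_le hk2
        ring_nf
        nlinarith
      omega
    rw [hQk, hk1] at hQ
    have : ¬ IsPrimePow (9 * 1 + 1) := by
      rw [isPrimePow_iff_unique_prime_dvd]
      rintro ⟨p, -, hp⟩
      have e1 := hp 2 ⟨Nat.prime_two, by norm_num⟩
      have e2 := hp 5 ⟨Nat.prime_five, by norm_num⟩
      omega
    exact this hQ
  -- size
  have hs1 : 1 ≤ s := by omega
  set P := ∏ i ∈ range a, (s ^ (i + 1) + 1) with hP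
  have hP0 : 0 < P := by
    rw [hP]
    exact prod_pos fun i _ => by positivity
  have hsa3 : 3 ≤ s ^ a := by
    calc 3 ≤ s := h3
      _ = s ^ 1 := (pow_one s).symm
      _ ≤ s ^ a := Nat.pow_le_pow_right hs1 ha
  have hm : m ≤ s ^ a * P * (Q - 1) :=
    Nat.le_of_dvd (Nat.mul_pos (Nat.mul_pos (by omega) hP0) (by omega)) h1
  have h6 : Q ^ (s ^ a) ≤ 2 * (s ^ (2 * a) * P ^ 2) * Q ^ 2 := by
    calc Q ^ (s ^ a) ≤ 2 * m ^ 2 := h5
      _ ≤ 2 * (s ^ a * P * (Q - 1)) ^ 2 := Nat.mul_le_mul_left _ (Nat.pow_le_pow_left hm 2)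
      _ ≤ 2 * (s ^ a * P * Q) ^ 2 := Nat.mul_le_mul_left _ (Nat.pow_le_pow_left
          (Nat.mul_le_mul_left _ (by omega)) 2)
      _ = _ := by rw [mul_pow, mul_pow, ← pow_mul, mul_comm a 2]; ring
  have h7 : Q ^ (s ^ a - 2) ≤ 2 * (s ^ (2 * a) * P ^ 2) := by
    have : Q ^ (s ^ a) = Q ^ (s ^ a - 2) * Q ^ 2 := by
      rw [← pow_add]; congr 1; omega
    rw [this] at h6
    exact Nat.le_of_mul_le_mul_right h6 (by positivity)
  by_cases h51 : s = 5 ∧ a = 1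
  · obtain ⟨rfl, rfl⟩ := h51
    rw [hP, prod_range_one] at h7
    norm_num at h7 hQge
    have : 26 ^ 3 ≤ Q ^ 3 := Nat.pow_le_pow_left (by omega) 3
    omega
  · have h8 : (s ^ (a + 1)) ^ (s ^ a - 2) ≤ Q ^ (s ^ a - 2) :=
      Nat.pow_le_pow_left (by omega) _
    rw [← pow_mul] at h8
    have h9 : a ^ 2 + 5 * a + 1 ≤ (a + 1) * (s ^ a - 2) := by
      by_cases ha1 : a = 1
      · subst ha1
        have h10 : 7 ≤ s := by
          by_contra h
          have : s ≠ 4 := by rintro rfl; exact absurd hs (by norm_num)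
          have : s ≠ 6 := by rintro rfl; exact absurd hs (by norm_num)
          have : s ≠ 3 := by rintro rfl; exact h31 ⟨rfl, rfl⟩
          have : s ≠ 5 := by rintro rfl; exact h51 ⟨rfl, rfl⟩
          omega
        rw [pow_one]
        omega
      · have h10 : a + 6 ≤ s ^ a := by
          have h11 : ∀ b : ℕ, b + 2 + 6 ≤ 3 ^ (b + 2) := by
            intro b
            induction b with
            | zero => norm_num
            | succ b ih => rw [show b + 1 + 2 = b + 2 + 1 by ring, pow_succ]; omega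
          obtain ⟨b, rfl⟩ := Nat.exists_eq_add_of_le (show 2 ≤ a by omega)
          have := h11 b
          rw [add_comm b 2] at this
          exact this.trans (Nat.pow_le_pow_left h3 _)
        have h12 : (a + 1) * (a + 4) ≤ (a + 1) * (s ^ a - 2) := Nat.mul_le_mul_left _ (by omega)
        nlinarith
    have h10 : s ^ (a ^ 2 + 5 * a + 1) ≤ s ^ ((a + 1) * (s ^ a - 2)) := Nat.pow_le_pow_right hs1 h9
    have h11 := prod_sq_le hs1 a
    rw [← hP] at h11
    have h12 : 2 * (s ^ (2 * a) * P ^ 2) < s ^ (a ^ 2 + 5 * a + 1) := by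
      have h13 : 2 * 4 ^ a < s ^ (2 * a + 1) := by
        calc 2 * 4 ^ a < 3 * 9 ^ a := by
              have : 4 ^ a ≤ 9 ^ a := Nat.pow_le_pow_left (by norm_num) a
              have : 0 < 9 ^ a := by positivity
              omega
          _ = 3 ^ (2 * a + 1) := by rw [pow_succ, pow_mul]; norm_num; ring
          _ ≤ s ^ (2 * a + 1) := Nat.pow_le_pow_left h3 _
      calc 2 * (s ^ (2 * a) * P ^ 2) ≤ 2 * (s ^ (2 * a) * (4 ^ a * s ^ (a * (a + 1)))) := by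
            gcongr
        _ = 2 * 4 ^ a * (s ^ (2 * a) * s ^ (a * (a + 1))) := by ring
        _ < s ^ (2 * a + 1) * (s ^ (2 * a) * s ^ (a * (a + 1))) :=
            Nat.mul_lt_mul_of_pos_right h13 (by positivity)
        _ = s ^ (a ^ 2 + 5 * a + 1) := by rw [← pow_add, ← pow_add]; congr 1; ring
    omega

end Cfsg.Agent.H450.HT
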